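import Mathlib

set_option autoImplicit false

/-! The orbits of a subgroup on its cosets from a family of representatives of all the cosets, and
the transport of such orbits along an isomorphism. -/

namespace Cfsg.Agent.Helper9.J2U

open MulAction

theorem smul_mk_coset {G : Type*} [Group G] (H : Subgroup G) (h : ↥H) (g : G) :
    h • (QuotientGroup.mk g : G ⧸ H) = QuotientGroup.mk ((h : G) * g) := rfl

/-- the orbits of a subgroup of index `1 + n1 + n2` on its cosets, from representatives of all the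
cosets that are pairwise different, the first in the subgroup, the next `n1` in one double coset
and the last `n2` in another, if `n1 + n2` does not divide the order of the subgroup. -/
theorem orbit_ncard_of_reps {G : Type*} [Group G] (H : Subgroup G) [Finite H] (n1 n2 : ℕ)
    (h1 : 0 < n1) (h2 : 0 < n2)
    (hidx : H.index = 1 + n1 + n2) (hdvd : ¬ (n1 + n2) ∣ Nat.card H) (g1 g2 : G) (x : ℕ → G)
    (hx0 : x 0 ∈ H)
    (hx1 : ∀ i, 0 < i → i ≤ n1 → ∃ h ∈ H, x i = h * g1)
    (hx2 : ∀ i, n1 < i → i ≤ n1 + n2 → ∃ h ∈ H, x i = h * g2)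
    (hne : ∀ i j, i < j → j ≤ n1 + n2 → (x j)⁻¹ * x i ∉ H) :
    (orbit ↥H (QuotientGroup.mk g1 : G ⧸ H)).ncard = n1 ∧
      (orbit ↥H (QuotientGroup.mk g2 : G ⧸ H)).ncard = n2 := by
  classical
  have hfi : H.FiniteIndex := ⟨by rw [hidx]; omega⟩
  have hfin : Finite (G ⧸ H) := Subgroup.finite_quotient_of_finiteIndex
  have hcard : Nat.card (G ⧸ H) = 1 + n1 + n2 := by rw [← Subgroup.index_eq_card, hidx]
  set c : ℕ → G ⧸ H := fun i => (QuotientGroup.mk (x i) : G ⧸ H) with hc
  have cinj : ∀ i j, i ≤ n1 + n2 → j ≤ n1 + n2 → c i = c j → i = j := by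
    intro i j hi hj e
    by_contra hij
    rcases Nat.lt_or_gt_of_ne hij with hlt | hlt
    · exact hne i j hlt hj (QuotientGroup.eq.1 e.symm)
    · exact hne j i hlt hi (QuotientGroup.eq.1 e)
  -- all cosets
  have csurj : ∀ q : G ⧸ H, ∃ i, i ≤ n1 + n2 ∧ c i = q := by
    have hinj : Function.Injective (fun i : Fin (1 + n1 + n2) => c i.val) := by
      intro i j e
      exact Fin.ext (cinj _ _ (by have := i.isLt; omega) (by have := j.isLt; omega) e)
    have hbij := hinj.bijective_of_nat_card_le (by rw [hcard, Nat.card_fin])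
    intro q
    obtain ⟨i, hi⟩ := hbij.2 q
    exact ⟨i.val, by have := i.isLt; omega, hi⟩
  set q0 : G ⧸ H := c 0 with hq0
  set O1 := orbit ↥H (QuotientGroup.mk g1 : G ⧸ H) with hO1
  set O2 := orbit ↥H (QuotientGroup.mk g2 : G ⧸ H) with hO2
  have hA1 : ∀ i, 0 < i → i ≤ n1 → c i ∈ O1 := by
    intro i hi hi'
    obtain ⟨h, hh, e⟩ := hx1 i hi hi'
    refine ⟨⟨h, hh⟩, ?_⟩
    change (⟨h, hh⟩ : ↥H) • (QuotientGroup.mk g1 : G ⧸ H) = QuotientGroup.mk (x i)
    rw [smul_mk_coset, e]
  have hA2 : ∀ i, n1 < i → i ≤ n1 + n2 → c i ∈ O2 := by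
    intro i hi hi'
    obtain ⟨h, hh, e⟩ := hx2 i hi hi'
    refine ⟨⟨h, hh⟩, ?_⟩
    change (⟨h, hh⟩ : ↥H) • (QuotientGroup.mk g2 : G ⧸ H) = QuotientGroup.mk (x i)
    rw [smul_mk_coset, e]
  have hq0one : q0 = (QuotientGroup.mk (1 : G) : G ⧸ H) := by
    rw [hq0, hc]
    apply QuotientGroup.eq.2
    rw [mul_one]
    exact H.inv_mem hx0
  have horb0 : orbit ↥H q0 = {q0} := by
    ext q
    constructor
    · rintro ⟨h, rfl⟩
      rw [Set.mem_singleton_iff, hq0one]
      change h • (QuotientGroup.mk (1 : G) : G ⧸ H) = _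
      rw [smul_mk_coset]
      apply QuotientGroup.eq.2
      rw [mul_one, mul_one]
      exact H.inv_mem h.2
    · intro hq
      rw [Set.mem_singleton_iff] at hq
      rw [hq]
      exact mem_orbit_self _
  have hq0O1 : q0 ∉ O1 := by
    intro hq
    have e : orbit ↥H q0 = O1 := orbit_eq_iff.2 hq
    have h3 : c 1 ∈ O1 := hA1 1 Nat.one_pos h1
    rw [← e, horb0, Set.mem_singleton_iff] at h3
    have := cinj 1 0 (by omega) (by omega) h3
    omega
  have hq0O2 : q0 ∉ O2 := by
    intro hq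
    have e : orbit ↥H q0 = O2 := orbit_eq_iff.2 hq
    have h3 : c (n1 + 1) ∈ O2 := hA2 (n1 + 1) (by omega) (by omega)
    rw [← e, horb0, Set.mem_singleton_iff] at h3
    have := cinj (n1 + 1) 0 (by omega) (by omega) h3
    omega
  have hO12 : O1 ≠ O2 := by
    intro e
    have hall : O1 = {q0}ᶜ := by
      ext q
      rw [Set.mem_compl_iff, Set.mem_singleton_iff]
      constructor
      · intro hq hq'
        rw [hq'] at hq
        exact hq0O1 hq
      · intro hq
        obtain ⟨i, hi, rfl⟩ := csurj q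
        rcases Nat.eq_zero_or_pos i with h0 | h0
        · rw [h0] at hq
          exact absurd rfl hq
        · rcases Nat.lt_or_ge n1 i with h3 | h3
          · rw [e]
            exact hA2 i h3 hi
          · exact hA1 i h0 h3
    have hn : O1.ncard = n1 + n2 := by
      have h4 := Set.ncard_add_ncard_compl ({q0} : Set (G ⧸ H))
      rw [Set.ncard_singleton, ← hall, hcard] at h4
      omega
    apply hdvd
    rw [← hn, hO1, ← index_stabilizer]
    exact Subgroup.index_dvd_card _
  have hdis : Disjoint O1 O2 := by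
    rw [Set.disjoint_left]
    intro q hq1 hq2
    apply hO12
    rw [hO1, hO2, ← orbit_eq_iff.2 hq1, ← orbit_eq_iff.2 hq2]
  -- the lower bounds
  have hl1 : n1 ≤ O1.ncard := by
    have h5 : ((Finset.Icc 1 n1).image c : Set (G ⧸ H)) ⊆ O1 := by
      intro q hq
      rw [Finset.mem_coe, Finset.mem_image] at hq
      obtain ⟨i, hi, rfl⟩ := hq
      rw [Finset.mem_Icc] at hi
      exact hA1 i hi.1 hi.2
    have h6 := Set.ncard_le_ncard h5 (Set.toFinite _)
    rw [Set.ncard_coe_finset, Finset.card_image_of_injOn, Nat.card_Icc] at h6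
    · omega
    · intro i hi j hj e
      rw [Finset.mem_coe, Finset.mem_Icc] at hi hj
      exact cinj i j (by omega) (by omega) e
  have hl2 : n2 ≤ O2.ncard := by
    have h5 : ((Finset.Icc (n1 + 1) (n1 + n2)).image c : Set (G ⧸ H)) ⊆ O2 := by
      intro q hq
      rw [Finset.mem_coe, Finset.mem_image] at hq
      obtain ⟨i, hi, rfl⟩ := hq
      rw [Finset.mem_Icc] at hi
      exact hA2 i (by omega) hi.2
    have h6 := Set.ncard_le_ncard h5 (Set.toFinite _)
    rw [Set.ncard_coe_finset, Finset.card_image_of_injOn, Nat.card_Icc] at h6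
    · omega
    · intro i hi j hj e
      rw [Finset.mem_coe, Finset.mem_Icc] at hi hj
      exact cinj i j (by omega) (by omega) e
  -- the upper bound
  have hu : O1.ncard + O2.ncard + 1 ≤ 1 + n1 + n2 := by
    have h7 : (O1 ∪ O2) ⊆ {q0}ᶜ := by
      intro q hq
      rw [Set.mem_compl_iff, Set.mem_singleton_iff]
      intro e
      rw [e] at hq
      rcases hq with hq | hq
      · exact hq0O1 hq
      · exact hq0O2 hq
    have h8 := Set.ncard_le_ncard h7 (Set.toFinite _)
    rw [Set.ncard_union_eq hdis (Set.toFinite _) (Set.toFinite _)] at h8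
    have h4 := Set.ncard_add_ncard_compl ({q0} : Set (G ⧸ H))
    rw [Set.ncard_singleton, hcard] at h4
    omega
  constructor <;> omega

/-- the preimage of a subgroup under an isomorphism is isomorphic to the subgroup. -/
noncomputable def comapEquiv {Y X : Type*} [Group Y] [Group X] (e : Y ≃* X) (H : Subgroup X) :
    ↥(H.comap e.toMonoidHom) ≃* ↥H :=
  (e.subgroupMap (H.comap e.toMonoidHom)).trans
    (MulEquiv.subgroupCongr (Subgroup.map_comap_eq_self_of_surjective e.surjective H))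

/-- the transport of the subgroup and of its orbits on its cosets to the source of an
isomorphism. -/
theorem exists_of_equiv {Y X P : Type*} [Group Y] [Group X] [Group P] (e : Y ≃* X)
    (H : Subgroup X) [Finite H] (n1 n2 : ℕ) (h1 : 0 < n1) (h2 : 0 < n2)
    (hidx : H.index = 1 + n1 + n2) (hdvd : ¬ (n1 + n2) ∣ Nat.card H) (g1 g2 : X) (x : ℕ → X)
    (hx0 : x 0 ∈ H)
    (hx1 : ∀ i, 0 < i → i ≤ n1 → ∃ h ∈ H, x i = h * g1)
    (hx2 : ∀ i, n1 < i → i ≤ n1 + n2 → ∃ h ∈ H, x i = h * g2)
    (hne : ∀ i j, i < j → j ≤ n1 + n2 → (x j)⁻¹ * x i ∉ H) (f : ↥H ≃* P) :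
    ∃ K : Subgroup Y, K.index = 1 + n1 + n2 ∧ Nonempty (↥K ≃* P) ∧
      ∃ c₁ c₂ : Y ⧸ K, (orbit ↥K c₁).ncard = n1 ∧ (orbit ↥K c₂).ncard = n2 := by
  have hfinK : Finite ↥(H.comap e.toMonoidHom) := Finite.of_equiv _ (comapEquiv e H).symm.toEquiv
  have hcK : Nat.card ↥(H.comap e.toMonoidHom) = Nat.card ↥H :=
    Nat.card_congr (comapEquiv e H).toEquiv
  have hiK : (H.comap e.toMonoidHom).index = 1 + n1 + n2 := by
    rw [Subgroup.index_comap_of_surjective H e.surjective, hidx]
  have hmem : ∀ y : Y, y ∈ H.comap e.toMonoidHom ↔ e y ∈ H := fun _ => Iff.rfl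
  refine ⟨H.comap e.toMonoidHom, hiK, ⟨(comapEquiv e H).trans f⟩,
    QuotientGroup.mk (e.symm g1), QuotientGroup.mk (e.symm g2), ?_⟩
  apply orbit_ncard_of_reps (H.comap e.toMonoidHom) n1 n2 h1 h2 hiK (by rw [hcK]; exact hdvd)
    (e.symm g1) (e.symm g2) (fun i => e.symm (x i))
  · rw [hmem, e.apply_symm_apply]
    exact hx0
  · intro i h0 hi
    obtain ⟨h, hh, eq⟩ := hx1 i h0 hi
    refine ⟨e.symm h, ?_, ?_⟩
    · rw [hmem, e.apply_symm_apply]
      exact hh
    · rw [← map_mul, eq]
  · intro i h0 hi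
    obtain ⟨h, hh, eq⟩ := hx2 i h0 hi
    refine ⟨e.symm h, ?_, ?_⟩
    · rw [hmem, e.apply_symm_apply]
      exact hh
    · rw [← map_mul, eq]
  · intro i j hij hj hcon
    apply hne i j hij hj
    rw [hmem] at hcon
    change e ((e.symm (x j))⁻¹ * e.symm (x i)) ∈ H at hcon
    rw [map_mul, map_inv, e.apply_symm_apply, e.apply_symm_apply] at hcon
    exact hcon

end Cfsg.Agent.Helper9.J2U
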