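import Mathlib
import Cfsg.Agent.Helper9.J2O.Chk
import Cfsg.Agent.Helper9.J2U.Data
import Cfsg.Agent.Helper5.U33LPA

set_option autoImplicit false

/-! The checks on the data of a subgroup of index 100 of the Hall–Janko group. -/

noncomputable section

namespace Cfsg.Agent.Helper9.J2U

open Cfsg.Agent.Helper9.OutG Cfsg.Agent.Helper9.J3 Cfsg.Agent.Helper9.J2O

/-- the word in the tables of a letter. -/
def vw (c : ℕ) : List ℕ := nthW [wa, wb, wbi] c

/-- the word in the tables of a word in the letters. -/
def expW (l : List ℕ) : List ℕ := List.rec [] (fun c _ ih => List.append (vw c) ih) l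

theorem expW_nil : expW [] = [] := rfl

theorem expW_cons (c : ℕ) (l : List ℕ) : expW (c :: l) = vw c ++ expW l := rfl

/-- the equality of truth values. -/
def eqB (a b : Bool) : Bool := Bool.rec (notB b) b a

theorem eqB_true {a b : Bool} (h : eqB a b = true) : a = b := by
  cases a <;> cases b <;> first | rfl | exact absurd h Bool.false_ne_true

/-- the membership in the orbit of 63 points. -/
def oB (x : ℕ) : Bool := Nat.beq (lkF 1 1 oMask x) 1

set_option maxRecDepth 1000000 in
theorem rel_b : ∀ l ∈ Cfsg.Agent.Helper5.U33LP.R3,
    agreeL dC.bs (evalT dD (expW l)) (fun x => x) = true := by decide +kernel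

set_option maxRecDepth 1000000 in
theorem stab_b : allB (fun c => allB (fun x => eqB (oB (evalT dD (vw c) x)) (oB x)) dD.n) 3 =
    true := by decide +kernel

set_option maxRecDepth 1000000 in
theorem mv_b : Nat.beq (evalT dD (vw 0) 0) 0 = false := by decide +kernel

theorem hw_lt : ∀ l ∈ hwAll, ∀ c ∈ l, c < 3 := by decide +kernel

theorem hw_len : hwAll.length = 100 := by decide +kernel

/-- the word of the representative of the double coset of a coset. -/
def gwOf (i : ℕ) : List ℕ := Bool.rec (Bool.rec wg2 wg1 (ltB i 37)) [] (ltB i 1)

/-- the word of the representative of a coset. -/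
def xW (i : ℕ) : List ℕ := List.append (expW (nthW hwAll i)) (gwOf i)

/-- the witness of a pair of cosets. -/
def witF (i j : ℕ) : ℕ := lkF 9 511 witP (Nat.add (Nat.mul 100 j) i)

/-- the check of a pair of cosets: the witness is a point, in the orbit, and is moved out of
it. -/
def pairChk (i j : ℕ) : Bool :=
  andB (ltB (witF i j) dD.n)
    (andB (oB (witF i j)) (notB (oB (evalI dD (xW j) (evalT dD (xW i) (witF i j))))))

set_option maxRecDepth 1000000 in
theorem pair_b : allB (fun j => allB (fun i => pairChk i j) j) 100 = true := by decide +kernel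

end Cfsg.Agent.Helper9.J2U

end
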