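import Mathlib
import Cfsg.Agent.Helper9.J2U.Abs
import Cfsg.Agent.Helper9.J2U.Chk
import Cfsg.Agent.Helper9.J2O.Final
import Cfsg.Agent.Helper5.U33LPD
import Cfsg.Agent.Helper5.SimpleHom

set_option autoImplicit false

/-! A subgroup of index 100 of the Hall–Janko group on 315 points that is isomorphic to the group
presented by the presentation of `U₃(3)`, and its orbits on its cosets. -/

noncomputable section

namespace Cfsg.Agent.Helper9.J2U

open Cfsg Cfsg.Agent.Helper9.OutG Cfsg.Agent.Helper9.J3 Cfsg.Agent.Helper9.J2O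
  Cfsg.Agent.Helper5.LP Cfsg.Agent.Helper5.U33LP MulAction

/-- the group of the tables. -/
abbrev X : Type := ↥(GS core)

/-- the element of a letter. -/
def V (c : ℕ) : X := gW core (vw c)

theorem prod_map_V (l : List ℕ) : (l.map V).prod = gW core (expW l) := by
  induction l with
  | nil => rfl
  | cons c l ih =>
    rw [List.map_cons, List.prod_cons, ih, expW_cons, gW_append]
    rfl

theorem gW_eq_one {w : List ℕ} (hw : agreeL dC.bs (evalT dD w) (fun x => x) = true) :
    gW core w = 1 :=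
  eq_of_agreeL core card_GS (comp_gW core w) Comp.one hw

theorem V_rels : ∀ l ∈ R3, (l.map V).prod = 1 := by
  intro l hl
  rw [prod_map_V]
  exact gW_eq_one (rel_b l hl)

/-- the homomorphism of the presented group to the group of the tables. -/
def phi : LPG 3 R3 →* X := lift V lettersA V_rels

theorem phi_ev (l : List ℕ) (hl : ∀ c ∈ l, c < 3) : phi (ev 3 R3 l) = gW core (expW l) := by
  unfold phi
  rw [lift_ev V lettersA V_rels l hl, prod_map_V]

theorem n_pos : 0 < dD.n := by decide

theorem V0_ne : V 0 ≠ 1 := ne_one_of_move core (comp_gW core (vw 0)) n_pos mv_b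

theorem phi_inj : Function.Injective phi := by
  have := simple_card.1
  apply Cfsg.Agent.Helper5.SimpleHom.injective_of_simple phi (ev 3 R3 [0])
  rw [phi_ev [0] (by simp)]
  have e : expW [0] = vw 0 := List.append_nil _
  rw [e]
  exact V0_ne

/-- the subgroup of index 100. -/
def H0 : Subgroup X := phi.range

/-- the subgroup is the presented group. -/
def H0Equiv : LPG 3 R3 ≃* ↥H0 := MonoidHom.ofInjective phi_inj

theorem card_H0 : Nat.card ↥H0 = 6048 := by
  rw [← Nat.card_congr H0Equiv.toEquiv]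
  exact simple_card.2

instance : Finite ↥H0 := Nat.finite_of_card_ne_zero (by rw [card_H0]; norm_num)

theorem index_H0 : H0.index = 100 := by
  have h := H0.card_mul_index
  rw [card_H0, card_GS] at h
  omega

/-- the stabilizer of the orbit of 63 points. -/
def StabO : Subgroup X where
  carrier := {g | ∀ p : Fin dD.n, oB (g.1 p).val = oB p.val}
  one_mem' := fun _ => rfl
  mul_mem' := by
    intro a b ha hb p
    rw [Subgroup.coe_mul, Equiv.Perm.mul_apply, ha, hb]
  inv_mem' := by
    intro a ha p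
    have h := ha ((a.1)⁻¹ p)
    have e : a.1 ((a.1)⁻¹ p) = p := (a.1).apply_symm_apply p
    rw [e] at h
    change oB ((a⁻¹).1 p).val = oB p.val
    rw [Subgroup.coe_inv]
    exact h.symm

theorem V_mem {c : ℕ} (hc : c < 3) : V c ∈ StabO := by
  intro p
  change oB ((gW core (vw c)).1 p).val = oB p.val
  rw [comp_gW core (vw c) p]
  exact eqB_true (allB_true (allB_true stab_b hc) p.isLt)

theorem H0_le : H0 ≤ StabO := by
  unfold H0
  rw [MonoidHom.range_eq_map, ← closure_gens, MonoidHom.map_closure, Subgroup.closure_le]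
  rintro _ ⟨_, ⟨c, hc, rfl⟩, rfl⟩
  rw [phi_ev [c] (by simpa using hc)]
  have e : expW [c] = vw c := List.append_nil _
  rw [e]
  exact V_mem hc

/-- the representative of a coset. -/
def xE (i : ℕ) : X := gW core (xW i)

theorem nth_lt {i : ℕ} (hi : i < 100) : ∀ c ∈ nthW hwAll i, c < 3 := by
  rw [nthW_eq]
  have hi' : i < hwAll.length := by rw [hw_len]; exact hi
  rw [List.getD_eq_getElem _ _ hi']
  exact hw_lt _ (List.getElem_mem hi')

theorem xE_eq {i : ℕ} (hi : i < 100) :
    xE i = phi (ev 3 R3 (nthW hwAll i)) * gW core (gwOf i) := by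
  rw [phi_ev _ (nth_lt hi), ← gW_append]
  rfl

theorem xE_zero : xE 0 ∈ H0 := by
  rw [xE_eq (by norm_num)]
  have e : gW core (gwOf 0) = 1 := rfl
  rw [e, mul_one]
  exact ⟨_, rfl⟩

theorem gwOf_one {i : ℕ} (h0 : 0 < i) (hi : i ≤ 36) : gwOf i = wg1 := by
  unfold gwOf
  have e1 : ltB i 1 = false := by
    cases h : ltB i 1
    · rfl
    · have := ltB_true h
      omega
  have e2 : ltB i 37 = true := Nat.ble_eq_true_of_le (by omega)
  rw [e1, e2]

theorem gwOf_two {i : ℕ} (h0 : 36 < i) : gwOf i = wg2 := by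
  unfold gwOf
  have e1 : ltB i 1 = false := by
    cases h : ltB i 1
    · rfl
    · have := ltB_true h
      omega
  have e2 : ltB i 37 = false := by
    cases h : ltB i 37
    · rfl
    · have := ltB_true h
      omega
  rw [e1, e2]

theorem xE_ne : ∀ i j, i < j → j ≤ 36 + 63 → (xE j)⁻¹ * xE i ∉ H0 := by
  intro i j hij hj hmem
  have hj' : j < 100 := by omega
  have hb0 := andB_true (allB_true (allB_true pair_b hj') hij)
  have hb := andB_true hb0.2
  have h1 := H0_le hmem
  have hc : Comp ((xE j)⁻¹ * xE i).1 (fun z => evalI dD (xW j) (evalT dD (xW i) z)) :=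
    Comp.coe_mul core (f := evalI dD (xW j)) (f' := evalT dD (xW i)) (comp_gW_inv core (xW j))
      (comp_gW core (xW i))
  have hlt : witF i j < dD.n := ltB_true hb0.1
  have h2 := h1 ⟨witF i j, hlt⟩
  rw [hc ⟨witF i j, hlt⟩] at h2
  change oB (evalI dD (xW j) (evalT dD (xW i) (witF i j))) = oB (witF i j) at h2
  rw [hb.1, notB_true hb.2] at h2
  exact Bool.false_ne_true h2

theorem xE_one : ∀ i, 0 < i → i ≤ 36 → ∃ h ∈ H0, xE i = h * gW core wg1 := by
  intro i h0 hi
  refine ⟨phi (ev 3 R3 (nthW hwAll i)), ⟨_, rfl⟩, ?_⟩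
  rw [xE_eq (by omega), gwOf_one h0 hi]

theorem xE_two : ∀ i, 36 < i → i ≤ 36 + 63 → ∃ h ∈ H0, xE i = h * gW core wg2 := by
  intro i h0 hi
  refine ⟨phi (ev 3 R3 (nthW hwAll i)), ⟨_, rfl⟩, ?_⟩
  rw [xE_eq (by omega), gwOf_two h0]

theorem not_dvd : ¬ (36 + 63) ∣ Nat.card ↥H0 := by
  rw [card_H0]
  norm_num

/-- the orbits of the subgroup on its cosets. -/
theorem orbits :
    (orbit ↥H0 (QuotientGroup.mk (gW core wg1) : X ⧸ H0)).ncard = 36 ∧
      (orbit ↥H0 (QuotientGroup.mk (gW core wg2) : X ⧸ H0)).ncard = 63 :=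
  orbit_ncard_of_reps H0 36 63 (by norm_num) (by norm_num) index_H0 not_dvd (gW core wg1)
    (gW core wg2) xE xE_zero xE_one xE_two xE_ne

/-- **The Hall–Janko group has a subgroup of index 100 that is isomorphic to the group of the
presentation of `U₃(3)` and has orbits of 36 and 63 cosets.** -/
theorem main {P : Type*} [Group P] (f : LPG 3 R3 ≃* P) :
    ∃ K : Subgroup Cfsg.Spor.J2, K.index = 100 ∧ Nonempty (↥K ≃* P) ∧
      ∃ c₁ c₂ : Cfsg.Spor.J2 ⧸ K, (orbit ↥K c₁).ncard = 36 ∧ (orbit ↥K c₂).ncard = 63 :=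
  exists_of_equiv J2EquivGS H0 36 63 (by norm_num) (by norm_num) index_H0 not_dvd (gW core wg1)
    (gW core wg2) xE xE_zero xE_one xE_two xE_ne (H0Equiv.symm.trans f)

end Cfsg.Agent.Helper9.J2U

end
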